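import Groth.Agent.L27.FEtExt.Spread
import Mathlib.RingTheory.Jacobson.Ring
import Mathlib.FieldTheory.IsAlgClosed.Basic

/-! # Finite étale covers of proper schemes over algebraically closed fields are insensitive to extensions -/

set_option autoImplicit false
set_option linter.style.haveILetI false
set_option backward.isDefEq.respectTransparency false
set_option backward.isDefEq.respectTransparency.types false

universe u

open CategoryTheory CategoryTheory.Limits AlgebraicGeometry Opposite

noncomputable section

namespace Groth.L27.FEtExt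

open Groth.L27.FEtProper

variable {k : Type u} [Field k] {X : Scheme.{u}} (f : X ⟶ Spec (CommRingCat.of k))

theorem bcm_pullback_fst {R S : Type u} [CommRing R] [CommRing S] [Algebra k R] [Algebra k S] (φ : R →ₐ[k] S) :
    bcm f φ ≫ pullback.fst f (st R) = pullback.fst f (st S) := bcm_fst f φ

/-- A maximal ideal of a finitely generated algebra over an algebraically closed field is rational. -/
theorem bijective_residue [IsAlgClosed k] {R : Type u} [CommRing R] [Algebra k R] [Algebra.FiniteType k R]
    (m : Ideal R) [m.IsMaximal] : Function.Bijective (algebraMap k (R ⧸ m)) := by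
  letI := Ideal.Quotient.field m
  haveI : Algebra.FiniteType k (R ⧸ m) :=
    Algebra.FiniteType.of_surjective (Ideal.Quotient.mkₐ k m) (Ideal.Quotient.mkₐ_surjective k m)
  haveI : Module.Finite k (R ⧸ m) := finite_of_finite_type_of_isJacobsonRing k (R ⧸ m)
  exact IsAlgClosed.algebraMap_bijective_of_isIntegral

/-- Over the completion at a rational point every cover is constant. -/
theorem exists_constant_compl [IsProper f] [IsAlgClosed k] {R : Type u} [CommRing R] [Algebra k R]
    [Algebra.FiniteType k R] (m : Ideal R) [m.IsMaximal]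
    (V : FEt.Cat (pullback f (st (AdicCompletion m R)))) :
    ∃ W : FEt.Cat X, Nonempty ((FEt.restrict (pullback.fst f (st (AdicCompletion m R)))).obj W ≅ V) := by
  haveI : IsNoetherianRing R := Algebra.FiniteType.isNoetherianRing k R
  let B := AdicCompletion m R
  haveI : IsNoetherianRing B := Groth.Agent.S0543.result R m
  let J : Ideal B := m.map (algebraMap R B)
  haveI : IsAdicComplete J B :=
    (IsAdicComplete.map_algebraMap_iff _ _).mpr (AdicCompletion.isAdicComplete (IsNoetherian.noetherian m))
  let fc : pullback f (st B) ⟶ Spec (CommRingCat.of B) := pullback.snd f (st B)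
  haveI := isEquivalence_complete J fc
  have hker : RingHom.ker (AdicCompletion.evalOneₐ m).toRingHom = J :=
    AdicCompletion.ker_evalOneₐ_eq_map m (IsNoetherian.noetherian m)
  let r : (B ⧸ J) ≃+* (R ⧸ m) := (Ideal.quotEquivOfEq hker.symm).trans
    (RingHom.quotientKerEquivOfSurjective (AdicCompletion.evalOneₐ_surjective m))
  have hr : Function.Bijective ((Ideal.Quotient.mk J).comp (algebraMap k B)) := by
    have h : r.toRingHom.comp ((Ideal.Quotient.mk J).comp (algebraMap k B)) = algebraMap k (R ⧸ m) := by
      refine RingHom.ext fun c => ?_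
      show AdicCompletion.evalOneₐ m (algebraMap k B c) = _
      rw [IsScalarTower.algebraMap_apply k R B, AlgHom.commutes]
      rfl
    have hb := bijective_residue (k := k) m
    rw [← h] at hb
    exact (Function.Bijective.of_comp_iff' r.bijective _).mp hb
  haveI : IsIso (CommRingCat.ofHom ((Ideal.Quotient.mk J).comp (algebraMap k B))) :=
    (ConcreteCategory.isIso_iff_bijective _).mpr hr
  haveI : IsIso (HenselProper.ι J ≫ st (k := k) B) := by
    rw [← Spec.map_comp]
    exact inferInstanceAs (IsIso (Spec.map (CommRingCat.ofHom ((Ideal.Quotient.mk J).comp (algebraMap k B)))))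
  have hsq : IsPullback (i J fc ≫ pullback.fst f (st B)) (pullback.snd fc (HenselProper.ι J)) f
      (HenselProper.ι J ≫ st (k := k) B) :=
    (IsPullback.of_hasPullback fc (HenselProper.ι J)).paste_horiz (IsPullback.of_hasPullback f (st B))
  haveI : IsIso (i J fc ≫ pullback.fst f (st B)) := hsq.isIso_fst_of_isIso
  haveI : (FEt.restrict (i J fc ≫ pullback.fst f (st B))).IsEquivalence := Groth.Agent.S0238.result _
  let W := (FEt.restrict (i J fc ≫ pullback.fst f (st B))).objPreimage ((FEt.restrict (i J fc)).obj V)
  exact ⟨W, ⟨(FEt.restrict (i J fc)).preimageIso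
    ((restrictComp (i J fc) (pullback.fst f (st B))).symm.app W ≪≫
      (FEt.restrict (i J fc ≫ pullback.fst f (st B))).objObjPreimageIso _)⟩⟩

theorem essSurj_restrict [IsProper f] [IsAlgClosed k] (K : Type u) [Field K] [Algebra k K] [IsSepClosed K] :
    (FEt.restrict (pullback.fst f (st K))).EssSurj where
  mem_essImage U₀ := by
    obtain ⟨P, _, _, φ, V, hP, ⟨χ⟩⟩ := exists_spread f U₀
    let R := P ⧸ RingHom.ker φ.toRingHom
    haveI : (RingHom.ker φ.toRingHom).IsPrime := RingHom.ker_isPrime _
    haveI : IsDomain R := Ideal.Quotient.isDomain _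
    haveI : Algebra.FiniteType k R :=
      Algebra.FiniteType.of_surjective (Ideal.Quotient.mkₐ k _) (Ideal.Quotient.mkₐ_surjective k _)
    haveI : IsNoetherianRing R := Algebra.FiniteType.isNoetherianRing k R
    let ψ : R →ₐ[k] K := Ideal.Quotient.liftₐ (RingHom.ker φ.toRingHom) φ fun a ha => ha
    have hψ : Function.Injective ψ := by
      refine (injective_iff_map_eq_zero _).mpr fun a ha => ?_
      obtain ⟨b, rfl⟩ := Ideal.Quotient.mk_surjective a
      exact Ideal.Quotient.eq_zero_iff_mem.mpr ha
    let q : P →ₐ[k] R := Ideal.Quotient.mkₐ k _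
    have hq : ψ.comp q = φ := AlgHom.ext fun _ => rfl
    obtain ⟨m, hm⟩ := Ideal.exists_maximal R
    let B := AdicCompletion m R
    let j : R →ₐ[k] B := IsScalarTower.toAlgHom k R B
    obtain ⟨W, ⟨eW⟩⟩ := exists_constant_compl f m ((FEt.restrict (bcm f j)).obj ((FEt.restrict (bcm f q)).obj V))
    -- a field receiving both the completion and the given field
    have hj : Function.Injective j := by
      refine (injective_iff_map_eq_zero _).mpr fun a ha => ?_
      have ha' : AdicCompletion.of m R a = 0 := ha
      have hinf : a ∈ (⨅ n : ℕ, m ^ n) := by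
        refine Ideal.mem_iInf.mpr fun n => ?_
        have h := congrArg (fun z => AdicCompletion.eval m R n z) ha'
        simp only [AdicCompletion.eval_of, map_zero] at h
        have h' : a ∈ (m ^ n • ⊤ : Submodule R R) := (Submodule.Quotient.mk_eq_zero _).mp h
        simpa using h'
      have h0 : (⨅ n : ℕ, m ^ n) = ⊥ := Ideal.iInf_pow_eq_bot_of_isDomain m hm.ne_top
      rw [h0] at hinf
      simpa using hinf
    obtain ⟨yB, hyB⟩ : ∃ y : Spec (CommRingCat.of B), (sp j).base y = (⟨⊥, Ideal.bot_prime⟩ : PrimeSpectrum R) := by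
      let S : Submonoid B := (nonZeroDivisors R).map j
      have hS : Disjoint ((⊥ : Ideal B) : Set B) (S : Set B) := by
        refine Set.disjoint_left.mpr ?_
        rintro _ hb ⟨a, ha, rfl⟩
        exact nonZeroDivisors.ne_zero ha (hj ((Ideal.mem_bot.mp hb).trans (map_zero j).symm))
      obtain ⟨p, hp, -, hdisj⟩ := Ideal.exists_le_prime_disjoint ⊥ S hS
      refine ⟨⟨p, hp⟩, PrimeSpectrum.ext (le_bot_iff.mp fun a ha => ?_)⟩
      by_contra hne
      exact Set.disjoint_left.mp hdisj ha ⟨a, mem_nonZeroDivisors_of_ne_zero (by simpa using hne), rfl⟩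
    have hyK : (sp ψ).base (default : PrimeSpectrum K) = (⟨⊥, Ideal.bot_prime⟩ : PrimeSpectrum R) := by
      refine PrimeSpectrum.ext (le_bot_iff.mp fun a ha => ?_)
      have h0 : (default : PrimeSpectrum K).asIdeal = ⊥ :=
        (Ideal.eq_bot_or_top _).resolve_right (default : PrimeSpectrum K).isPrime.ne_top
      have ha' : ψ a ∈ (default : PrimeSpectrum K).asIdeal := ha
      rw [h0] at ha'
      exact Ideal.mem_bot.mpr (hψ (by simpa using ha'))
    obtain ⟨t, ht1, ht2⟩ := Scheme.Pullback.exists_preimage_pullback (f := sp ψ) (g := sp j) _ yB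
      (hyK.trans hyB.symm)
    let Ω : Type u := ((pullback (sp ψ) (sp j)).residueField t : CommRingCat)
    let γ : Spec (CommRingCat.of Ω) ⟶ pullback (sp ψ) (sp j) := (pullback (sp ψ) (sp j)).fromSpecResidueField t
    obtain ⟨α, hα⟩ : ∃ α, Spec.map α = γ ≫ pullback.fst (sp ψ) (sp j) := ⟨_, Spec.map_preimage _⟩
    obtain ⟨β, hβ⟩ : ∃ β, Spec.map β = γ ≫ pullback.snd (sp ψ) (sp j) := ⟨_, Spec.map_preimage _⟩
    letI : Field Ω := inferInstanceAs (Field ((pullback (sp ψ) (sp j)).residueField t))
    letI : Algebra k Ω := (α.hom.comp (algebraMap k K)).toAlgebra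
    have hab : CommRingCat.ofHom ψ.toRingHom ≫ α = CommRingCat.ofHom j.toRingHom ≫ β := by
      refine Spec.map_injective ?_
      rw [Spec.map_comp, Spec.map_comp, hα, hβ, Category.assoc, Category.assoc, pullback.condition]
    let a : K →ₐ[k] Ω := { α.hom with commutes' := fun _ => rfl }
    let b : B →ₐ[k] Ω :=
      { β.hom with
        commutes' := fun c => by
          show β.hom (algebraMap k B c) = α.hom (algebraMap k K c)
          rw [← j.commutes c, ← ψ.commutes c]
          exact (ConcreteCategory.congr_hom hab (algebraMap k R c)).symm }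
    have hcomp : a.comp ψ = b.comp j := AlgHom.ext fun c => ConcreteCategory.congr_hom hab c
    obtain ⟨_, _⟩ := full_faithful_bcm f a
    refine ⟨W, ⟨(FEt.restrict (bcm f a)).preimageIso ?_⟩⟩
    refine (restrictComp (bcm f a) (pullback.fst f (st K))).symm.app W ≪≫
      (restrictCongr ((bcm_fst f a).trans (bcm_fst f b).symm)).app W ≪≫
      (restrictComp (bcm f b) (pullback.fst f (st B))).app W ≪≫ (FEt.restrict (bcm f b)).mapIso eW ≪≫ ?_
    refine (FEt.restrict (bcm f b)).mapIso ((restrictComp (bcm f j) (bcm f q)).symm.app V) ≪≫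
      (restrictComp (bcm f b) (bcm f j ≫ bcm f q)).symm.app V ≪≫
      (restrictCongr (show bcm f b ≫ bcm f j ≫ bcm f q = bcm f a ≫ bcm f φ from ?_)).app V ≪≫
      (restrictComp (bcm f a) (bcm f φ)).app V ≪≫ (FEt.restrict (bcm f a)).mapIso χ
    calc bcm f b ≫ bcm f j ≫ bcm f q = bcm f (b.comp j) ≫ bcm f q := by rw [← Category.assoc, bcm_comp]
      _ = bcm f (a.comp ψ) ≫ bcm f q := by rw [hcomp]
      _ = bcm f a ≫ bcm f (ψ.comp q) := by rw [← bcm_comp f ψ a, Category.assoc, bcm_comp]
      _ = bcm f a ≫ bcm f φ := congrArg (fun z => bcm f a ≫ bcm f z) hq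

/-- Base change of covers between algebraically (or separably) closed fields. -/
theorem isEquivalence_restrict [IsProper f] [IsAlgClosed k] (K : Type u) [Field K] [Algebra k K] [IsSepClosed K] :
    (FEt.restrict (pullback.fst f (st K))).IsEquivalence :=
  haveI := (full_faithful f (k' := K)).1
  haveI := (full_faithful f (k' := K)).2
  haveI := essSurj_restrict f K
  { }

end Groth.L27.FEtExt
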