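import Groth.Agent.L27.FEtProper.Artin
import Groth.Agent.L27.SGA1.FEtFaithful
import Groth.Agent.L27.SGA1.FieldFibres

/-! # Field extensions and finite étale covers: base change maps, spreading out, full faithfulness -/

set_option autoImplicit false
set_option linter.style.haveILetI false
set_option backward.isDefEq.respectTransparency false
set_option backward.isDefEq.respectTransparency.types false

universe u

open CategoryTheory CategoryTheory.Limits AlgebraicGeometry Opposite

noncomputable section

namespace Groth.L27.FEtExt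

open Groth.L27.FEtProper

variable {k : Type u} [Field k] {X : Scheme.{u}} (f : X ⟶ Spec (CommRingCat.of k))

/-- The spectrum of a `k`-algebra over `Spec k`. -/
abbrev st (R : Type u) [CommRing R] [Algebra k R] : Spec (CommRingCat.of R) ⟶ Spec (CommRingCat.of k) :=
  Spec.map (CommRingCat.ofHom (algebraMap k R))

/-- The morphism of spectra of a `k`-algebra homomorphism. -/
abbrev sp {R S : Type u} [CommRing R] [CommRing S] [Algebra k R] [Algebra k S] (φ : R →ₐ[k] S) :
    Spec (CommRingCat.of S) ⟶ Spec (CommRingCat.of R) :=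
  Spec.map (CommRingCat.ofHom φ.toRingHom)

theorem sp_st {R S : Type u} [CommRing R] [CommRing S] [Algebra k R] [Algebra k S] (φ : R →ₐ[k] S) :
    sp φ ≫ st R = st (k := k) S := by
  rw [← Spec.map_comp, ← CommRingCat.ofHom_comp]
  exact congrArg (fun r => Spec.map (CommRingCat.ofHom r)) (RingHom.ext φ.commutes)

/-- The base change of `f` along a morphism of spectra. -/
def bcm {R S : Type u} [CommRing R] [CommRing S] [Algebra k R] [Algebra k S] (φ : R →ₐ[k] S) :
    pullback f (st S) ⟶ pullback f (st R) :=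
  pullback.lift (pullback.fst _ _) (pullback.snd _ _ ≫ sp φ) (by rw [Category.assoc, sp_st]; exact pullback.condition)

@[reassoc]
theorem bcm_fst {R S : Type u} [CommRing R] [CommRing S] [Algebra k R] [Algebra k S] (φ : R →ₐ[k] S) :
    bcm f φ ≫ pullback.fst f (st R) = pullback.fst f (st S) := pullback.lift_fst _ _ _

@[reassoc]
theorem bcm_snd {R S : Type u} [CommRing R] [CommRing S] [Algebra k R] [Algebra k S] (φ : R →ₐ[k] S) :
    bcm f φ ≫ pullback.snd f (st R) = pullback.snd f (st S) ≫ sp φ := pullback.lift_snd _ _ _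

theorem bcm_comp {R S T : Type u} [CommRing R] [CommRing S] [CommRing T] [Algebra k R] [Algebra k S] [Algebra k T]
    (φ : R →ₐ[k] S) (ψ : S →ₐ[k] T) : bcm f ψ ≫ bcm f φ = bcm f (ψ.comp φ) := by
  refine pullback.hom_ext ?_ ?_
  · rw [Category.assoc, bcm_fst, bcm_fst, bcm_fst]
  · rw [Category.assoc, bcm_snd, bcm_snd, bcm_snd_assoc, ← Spec.map_comp]
    rfl

theorem isPullback_bcm {R S : Type u} [CommRing R] [CommRing S] [Algebra k R] [Algebra k S] (φ : R →ₐ[k] S) :
    IsPullback (bcm f φ) (pullback.snd f (st S)) (pullback.snd f (st R)) (sp φ) := by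
  refine IsPullback.of_right ?_ (bcm_snd f φ) (IsPullback.of_hasPullback f (st R))
  rw [bcm_fst, sp_st]
  exact IsPullback.of_hasPullback f (st S)

/-- Restriction from a separably closed field to any extension is fully faithful. -/
theorem full_faithful {k' : Type u} [Field k'] [Algebra k k'] [IsSepClosed k] :
    (FEt.restrict (pullback.fst f (st k'))).Full ∧ (FEt.restrict (pullback.fst f (st k'))).Faithful :=
  SGA1Conn.full_faithful_restrict _ (SGA1Conn.univSubmersive_fieldExt f) fun _ _ _ ξ => SGA1Conn.connectedSpace_fibre f ξ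

/-- Full faithfulness along a homomorphism of extension fields out of a separably closed one. -/
theorem full_faithful_bcm {K L : Type u} [Field K] [Field L] [Algebra k K] [Algebra k L] [IsSepClosed K]
    (φ : K →ₐ[k] L) : (FEt.restrict (bcm f φ)).Full ∧ (FEt.restrict (bcm f φ)).Faithful := by
  letI : Algebra K L := φ.toRingHom.toAlgebra
  obtain ⟨_, _⟩ := full_faithful (k := K) (k' := L) (pullback.snd f (st K))
  let h : IsPullback (bcm f φ) (pullback.snd f (st L)) (pullback.snd f (st K)) (st (k := K) L) :=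
    isPullback_bcm f φ
  haveI : (FEt.restrict h.isoPullback.hom).IsEquivalence := Groth.Agent.S0238.result _
  let e : FEt.restrict (bcm f φ) ≅
      FEt.restrict (pullback.fst (pullback.snd f (st K)) (st (k := K) L)) ⋙ FEt.restrict h.isoPullback.hom :=
    (restrictCongr h.isoPullback_hom_fst).symm ≪≫ restrictComp _ _
  exact ⟨Functor.Full.of_iso e.symm, Functor.Faithful.of_iso e.symm⟩

/-- Covers of the base change to a `k`-algebra come from a finitely generated algebra. -/
theorem exists_spread [QuasiCompact f] [QuasiSeparated f] {K : Type u} [CommRing K] [Algebra k K]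
    (U₀ : FEt.Cat (pullback f (st K))) :
    ∃ (P : Type u) (_ : CommRing P) (_ : Algebra k P) (φ : P →ₐ[k] K) (V : FEt.Cat (pullback f (st P))),
      Algebra.FiniteType k P ∧ Nonempty ((FEt.restrict (bcm f φ)).obj V ≅ U₀) := by
  let Q : MorphismProperty CommRingCat.{u} := RingHom.toMorphismProperty RingHom.FinitePresentation
  haveI : Q.RespectsIso :=
    RingHom.toMorphismProperty_respectsIso_iff.mp RingHom.finitePresentation_respectsIso
  have hind : MorphismProperty.ind.{u} Q (CommRingCat.ofHom (algebraMap k K)) :=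
    Groth.L27.IndEtale.ind_of_factor (Q := Q) (fun f hf => hf) fun P _ _ hP φ =>
      ⟨P, inferInstance, inferInstance, AlgHom.id _ P, φ, RingHom.finitePresentation_algebraMap.mpr hP, rfl⟩
  obtain ⟨Js, _, _, D, t, s, hs, hst⟩ := hind
  haveI : PreservesLimitsOfSize.{u, u} Scheme.Spec.{u} := ΓSpec.adjunction.rightAdjoint_preservesLimits
  let Ds : Jsᵒᵖ ⥤ Scheme.{u} := D.op ⋙ Scheme.Spec
  let cs : Cone Ds := Scheme.Spec.mapCone (Cocone.mk _ s).op
  let hcs : IsLimit cs := isLimitOfPreserves Scheme.Spec hs.op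
  haveI hbase : ∀ {j k : Jsᵒᵖ} (g : j ⟶ k), IsAffineHom (Ds.map g) := fun g =>
    inferInstanceAs (IsAffineHom (Spec.map _))
  let tt : ∀ j, Ds.obj j ⟶ Spec (CommRingCat.of k) := fun j => Spec.map (t.app j.unop)
  have htt : ∀ {j j' : Jsᵒᵖ} (g : j ⟶ j'), Ds.map g ≫ tt j' = tt j := fun {j j'} g => by
    show Spec.map (D.map g.unop) ≫ Spec.map (t.app j'.unop) = Spec.map (t.app j.unop)
    rw [← Spec.map_comp, ← t.naturality]
    simp
  have hT : ∀ j, cs.π.app j ≫ tt j = st (k := k) K := fun j => by
    show Spec.map (s.app j.unop) ≫ Spec.map (t.app j.unop) = _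
    rw [← Spec.map_comp, (hst j.unop).2]
  let DX := Groth.L19.Limit.baseDiagram f tt htt
  let cX := Groth.L19.Limit.baseCone f tt htt (st (k := k) K) hT (c := cs)
  let hcX := Groth.L19.Limit.isLimitBaseCone f tt htt (st (k := k) K) hT hcs
  haveI : ∀ (i j : Jsᵒᵖ) (g : i ⟶ j), IsAffineHom (DX.map g) := fun i j g =>
    Groth.L19.Limit.isAffineHom_baseDiagram_map f tt htt g
  haveI : ∀ j, IsAffine (Ds.obj j) := fun j => inferInstanceAs (IsAffine (Spec _))
  haveI hqc : ∀ j, CompactSpace ↥(DX.obj j) := fun j =>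
    QuasiCompact.compactSpace_of_compactSpace (pullback.snd f (tt j))
  haveI hqs : ∀ j, QuasiSeparatedSpace ↥(DX.obj j) := fun j =>
    quasiSeparatedSpace_of_quasiSeparated (pullback.snd f (tt j))
  obtain ⟨j, Vj, ⟨χ⟩⟩ := (Groth.Agent.S12073.result DX cX hcX).1 U₀
  letI : Algebra k (D.obj j.unop) := (t.app j.unop).hom.toAlgebra
  haveI : Algebra.FinitePresentation k (D.obj j.unop) := (hst j.unop).1
  let φ : (D.obj j.unop) →ₐ[k] K :=
    { (s.app j.unop).hom with commutes' := fun r => ConcreteCategory.congr_hom (hst j.unop).2 r }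
  refine ⟨D.obj j.unop, inferInstance, inferInstance, φ, Vj, inferInstance, ⟨?_⟩⟩
  refine (restrictCongr ?_).app Vj ≪≫ χ
  refine pullback.hom_ext ?_ ?_
  · refine (bcm_fst f φ).trans ?_
    exact ((pullback.lift_fst _ _ _).trans (Category.comp_id _)).symm
  · refine (bcm_snd f φ).trans ?_
    exact (pullback.lift_snd _ _ _).symm

end Groth.L27.FEtExt
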